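import Groth.Agent.RedSub.H645.ConjEqIff
import Groth.Agent.Sga3B.RG.BorConj838
import Groth.Agent.Sga3B.RG.BrHc
import Groth.Agent.Sga3B.Parab.PbK2

/-!
# Conjugacy of Borel subgroups over an algebraically closed field, scheme form
-/

set_option autoImplicit false

universe u

open CategoryTheory MonoidalCategory CartesianMonoidalCategory MonObj GrpObj AlgebraicGeometry
open Groth.Agent.Books.AffBridge Groth.Agent.Books.AffBridge2
open Groth.Agent.Sga3B.RG Groth.Agent.Sga3B.RG.BrPts Groth.Agent.Sga3B.RG.BrHc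
open Groth.Agent.Sga3B.Parab.BorelPts172 Groth.Agent.Books.AlgPtsGrp
open Groth.Agent.Sga3B.Parab.ConjPt

namespace Groth.Agent.RedSub.H645.BorelConj

variable {K : Type u} [Field K] [IsAlgClosed K]
  {G B B' : Over (Spec (CommRingCat.of K))} [GrpObj G] [GrpObj B] [GrpObj B']

/-- From homomorphisms to the functor-of-points conjugacy. -/
lemma conj_of_homs {S : Scheme.{u}} {G B B' : Over S} [GrpObj G] {b : B ⟶ G} {b' : B' ⟶ G}
    (γ : 𝟙_ (Over S) ⟶ G) (f : B ⟶ B') (hf : f ≫ b' = conjHom γ b)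
    (f' : B' ⟶ B) (hf' : f' ≫ b = conjHom γ⁻¹ b') : Conj b b' γ := by
  intro X x y
  rw [toUnit_unique x (toUnit _)]
  constructor
  · rintro ⟨z, rfl⟩
    exact ⟨z ≫ f, by rw [Category.assoc, hf, comp_conjHom]⟩
  · rintro ⟨z, hz⟩
    refine ⟨z ≫ f', ?_⟩
    rw [Category.assoc, hf', comp_conjHom, hz, GrpObj.comp_inv]
    group

/-- **Borel subgroups over an algebraically closed field are conjugate.** -/
theorem exists_conj [IsAffine G.left] [Smooth G.hom] {b : B ⟶ G} {b' : B' ⟶ G}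
    (hb : Red.IsBorelOver K b) (hb' : Red.IsBorelOver K b') :
    ∃ g : 𝟙_ _ ⟶ G, Conj b b' g := by
  obtain ⟨A, _, _, e, he, hft⟩ := exists_hopf_ft G
  have hinv : IsMonHom e.inv := inferInstance
  have mb := hb.1
  have mb' := hb'.1
  have sb := hb.2.2.1
  have sb' := hb'.2.2.1
  have h1 := Groth.Agent.Sga3B.Parab.PbK2.isBorelOver_comp_iso b e hb
  have h2 := Groth.Agent.Sga3B.Parab.PbK2.isBorelOver_comp_iso b' e hb'
  have c1 := h1.2.1
  have c2 := h2.2.1
  have p1 := (isBorelOver_iff (b ≫ e.hom)).1 h1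
  have p2 := (isBorelOver_iff (b' ≫ e.hom)).1 h2
  obtain ⟨g, hg⟩ := p2.exists_conj_eq p1
  have hg' : (ptsSub (b' ≫ e.hom)).map (MulAut.conj g⁻¹).toMonoidHom = ptsSub (b ≫ e.hom) := by
    have hid : (MulAut.conj g⁻¹).toMonoidHom.comp (MulAut.conj g).toMonoidHom =
        MonoidHom.id (Pt K A) := by
      refine MonoidHom.ext fun x => ?_
      change g⁻¹ * (g * x * g⁻¹) * g⁻¹⁻¹ = x
      group
    rw [← hg, Subgroup.map_map, hid, Subgroup.map_id]
  obtain ⟨f, hf⟩ := exists_hom_of_conj e b b' c2 g hg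
  obtain ⟨f', hf'⟩ := exists_hom_of_conj e b' b c1 g⁻¹ hg'
  refine ⟨ptEquiv K A g ≫ e.inv, conj_of_homs _ f hf f' ?_⟩
  rw [hf', map_inv, GrpObj.inv_comp]

end Groth.Agent.RedSub.H645.BorelConj
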