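import Groth.Agent.Sga3B.Parab.LCBc
import Groth.Prelude.Def_RedSub

/-!
# `RedSub.ConjEq` in terms of `Groth.Agent.Sga3B.Parab.ConjPt.Conj`
-/

set_option autoImplicit false

universe u

open CategoryTheory MonoidalCategory CartesianMonoidalCategory MonObj GrpObj AlgebraicGeometry

namespace Groth.Agent.RedSub.H645.ConjEqIff

open Groth.Agent.Sga3B Groth.Agent.Sga3B.Parab Groth.Agent.Sga3B.Parab.ConjPt

variable {S S' : Scheme.{u}} {G P Q : Over S} [GrpObj G] [GrpObj P] [GrpObj Q]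

omit [GrpObj P] [GrpObj Q] in
/-- The two formulations of "`g` conjugates `P` onto `Q`" agree. -/
theorem conjEq_iff {p : P ⟶ G} {q : Q ⟶ G} {X : Over S} (g : X ⟶ G) :
    RedSub.ConjEq p q g ↔ Conj p q g := by
  constructor
  · intro h X' x y
    constructor
    · rintro ⟨w, rfl⟩
      obtain ⟨w', hw'⟩ := (h X' x).1 w
      exact ⟨w', hw'.symm⟩
    · rintro ⟨w, hw⟩
      obtain ⟨w', hw'⟩ := (h X' x).2 w
      refine ⟨w', ?_⟩
      rw [← hw', hw]
      group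
  · intro h X' x
    constructor
    · intro w
      obtain ⟨w', hw'⟩ := (h X' x (w ≫ p)).1 ⟨w, rfl⟩
      exact ⟨w', hw'.symm⟩
    · intro w
      obtain ⟨w', hw'⟩ := (h X' x ((x ≫ g)⁻¹ * (w ≫ q) * (x ≫ g))).2 ⟨w, by group⟩
      exact ⟨w', hw'.symm⟩

/-- Base change of `RedSub.ConjEq`. -/
theorem conjEq_bc_iff (f : S' ⟶ S) {p : P ⟶ G} {q : Q ⟶ G} {X : Over S'} (g : X ⟶ Red.bc f G) :
    RedSub.ConjEq ((Over.pullback f).map p) ((Over.pullback f).map q) g ↔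
      RedSub.ConjEq p q ((DSPts.bcEquiv f X G).symm g) := by
  rw [conjEq_iff, conjEq_iff, LC.conj_bc_iff]

/-- A conjugating point with values in `f : U ⟶ S` gives a section of `G_U`. -/
theorem exists_conjEq_bc (f : S' ⟶ S) {p : P ⟶ G} {q : Q ⟶ G} {h : Over.mk f ⟶ G}
    (hh : Conj p q h) :
    ∃ g : 𝟙_ _ ⟶ Red.bc f G,
      RedSub.ConjEq ((Over.pullback f).map p) ((Over.pullback f).map q) g := by
  let c : (Over.map f).obj (𝟙_ (Over S')) ⟶ Over.mk f := Over.homMk (𝟙 S') (by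
    change 𝟙 _ ≫ f = 𝟙 _ ≫ f
    rfl)
  refine ⟨DSPts.bcEquiv f _ G (c ≫ h), ?_⟩
  rw [conjEq_bc_iff, MulEquiv.symm_apply_apply, conjEq_iff]
  exact hh.comp c

end Groth.Agent.RedSub.H645.ConjEqIff
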