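import Groth.Agent.RedSub.H645.EtConj
import Groth.Agent.RedSub.H645.BorelConj

/-!
# Borel subgroups (closed) of reductive group schemes are conjugate étale locally
-/

set_option autoImplicit false

universe u

open CategoryTheory MonoidalCategory CartesianMonoidalCategory MonObj GrpObj AlgebraicGeometry

namespace Groth.Agent.RedSub.H645.BorelEt

open Groth.Agent.Sga3B Groth.Agent.Sga3B.Parab.ConjPt Groth.Agent.RedSub.H645.EtConj

/-- A Borel subgroup is parabolic. -/
lemma isParabolicOver_of_isBorelOver {K : Type u} [Field K]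
    {B G : Over (Spec (CommRingCat.of K))} [GrpObj B] [GrpObj G] {b : B ⟶ G}
    (hb : Red.IsBorelOver K b) : Red.IsParabolicOver K b :=
  ⟨hb.1, hb.2.1, hb.2.2.1, B, inferInstance, 𝟙 B, by rwa [Category.id_comp]⟩

/-- A closed subgroup scheme with Borel geometric fibres is parabolic. -/
lemma isParabolic_of_isBorel {S : Scheme.{u}} {B G : Over S} [GrpObj B] [GrpObj G] {b : B ⟶ G}
    (hb : Red.IsBorel b) : Red.IsParabolic b :=
  ⟨hb.1, hb.2.1, hb.2.2.1, fun s => isParabolicOver_of_isBorelOver (hb.2.2.2 s)⟩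

/-- A Borel subgroup in the sense of `RedSub.IsBorelSub` which is closed is a Borel subgroup in the
sense of `Red.IsBorel`. -/
lemma isBorel_of_isBorelSub {S : Scheme.{u}} {B G : Over S} [GrpObj B] [GrpObj G] {b : B ⟶ G}
    (hb : RedSub.IsBorelSub b) (hcl : IsClosedImmersion b.left) : Red.IsBorel b :=
  ⟨hb.1.1.1, hcl, hb.1.2.1, hb.2⟩

variable {S : Scheme.{u}} {G B B' : Over S} [GrpObj G] [GrpObj B] [GrpObj B']

/-- The geometric fibres of two Borel subgroups are conjugate. -/
theorem exists_conj_geomFibre (hG : Red.IsReductive G) (b : B ⟶ G) (b' : B' ⟶ G) (s : S)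
    (hb : Red.IsBorelOver (AlgebraicClosure (S.residueField s)) ((Over.pullback (Red.geomPt s)).map b))
    (hb' : Red.IsBorelOver (AlgebraicClosure (S.residueField s))
      ((Over.pullback (Red.geomPt s)).map b')) :
    ∃ g : 𝟙_ _ ⟶ Red.geomFibre s G,
      Conj ((Over.pullback (Red.geomPt s)).map b) ((Over.pullback (Red.geomPt s)).map b') g := by
  have h1 := (hG.2.2 s).1
  have h2 := (hG.2.2 s).2.1
  exact BorelConj.exists_conj hb hb'

/-- **Borel subgroups of a reductive group scheme are conjugate over a smooth neighbourhood of each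
point.** -/
theorem smConj_of_isBorel (hG : Red.IsReductive G) (b : B ⟶ G) (b' : B' ⟶ G)
    (hb : Red.IsBorel b) (hb' : Red.IsBorel b') (s : S) : SmConj b b' s :=
  smConj_of_geomFibre hG b b' (isParabolic_of_isBorel hb) (isParabolic_of_isBorel hb') s
    (exists_conj_geomFibre hG b b' s (hb.2.2.2 s) (hb'.2.2.2 s))

/-- **Borel subgroups of a reductive group scheme are conjugate over an étale neighbourhood of each
point.** -/
theorem etConj_of_isBorel (hG : Red.IsReductive G) (b : B ⟶ G) (b' : B' ⟶ G)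
    (hb : Red.IsBorel b) (hb' : Red.IsBorel b') (s : S) : ELConj b b' s :=
  (smConj_of_isBorel hG b b' hb hb' s).elConj

/-- The same in terms of `RedSub.ConjEq`. -/
theorem exists_etale_conjEq_of_isBorel (hG : Red.IsReductive G) (b : B ⟶ G) (b' : B' ⟶ G)
    (hb : Red.IsBorel b) (hb' : Red.IsBorel b') (s : S) :
    ∃ (U : Scheme.{u}) (f : U ⟶ S) (_ : Etale f), s ∈ Set.range f.base ∧
      ∃ g : 𝟙_ _ ⟶ Red.bc f G,
        RedSub.ConjEq ((Over.pullback f).map b) ((Over.pullback f).map b') g :=
  (etConj_of_isBorel hG b b' hb hb' s).exists_conjEq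

end Groth.Agent.RedSub.H645.BorelEt
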