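import Groth.Agent.RedSub.H645.BorelEt
import Groth.Agent.S3040
import Groth.Agent.Sga3B.Parab.FibIsoSch
import Groth.Agent.Sga3B.Parab.PbKN751
import Groth.Agent.Sga3B.RG.PbQ890

/-!
# Borel subgroups (immersed) of reductive group schemes are closed and self-normalising

Idea (helper648): the normaliser `N` of `B` is a closed subscheme by `S3040`, and `B ⟶ N` is an
immersion which is an isomorphism on the geometric fibres.
-/

set_option autoImplicit false

universe u

open CategoryTheory MonoidalCategory CartesianMonoidalCategory MonObj GrpObj AlgebraicGeometry Limits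

namespace Groth.Agent.RedSub.H645.ClosedBor

open Groth.Agent.Sga3B Groth.Agent.Sga3B.Parab Groth.Agent.Sga3B.Parab.ConjPt

section Norm

variable {S : Scheme.{u}} {G B : Over S} [GrpObj G] [GrpObj B]

omit [GrpObj B] in
/-- The normalising condition in terms of `Conj`. -/
lemma norm_iff (i : B ⟶ G) {T : Over S} (g : T ⟶ G) :
    (∀ (T' : Over S) (t : T' ⟶ T) (h : T' ⟶ B),
      (∃ h' : T' ⟶ B, (t ≫ g) * (h ≫ i) * (t ≫ g)⁻¹ = h' ≫ i) ∧
      (∃ h' : T' ⟶ B, (t ≫ g)⁻¹ * (h ≫ i) * (t ≫ g) = h' ≫ i)) ↔ Conj i i g := by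
  rw [← ConjEqIff.conjEq_iff]
  exact ⟨fun h X' x => ⟨fun w => (h X' x w).1, fun w => (h X' x w).2⟩,
    fun h T' t w => ⟨(h T' t).1 w, (h T' t).2 w⟩⟩

omit [GrpObj B] in
/-- Base change of the condition that a point factors through `n`. -/
lemma mem_bc_iff {S' : Scheme.{u}} (f : S' ⟶ S) {N : Over S} (n : N ⟶ G) {X : Over S'}
    (g : X ⟶ Red.bc f G) :
    (∃ w : X ⟶ Red.bc f N, w ≫ (Over.pullback f).map n = g) ↔
      ∃ w : (Over.map f).obj X ⟶ N, w ≫ n = (DSPts.bcEquiv f X G).symm g := by
  have h1 : ∀ g : X ⟶ Red.bc f G, (DSPts.bcEquiv f X G).symm g =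
    ((Over.mapPullbackAdj f).homEquiv X G).symm g := fun _ => rfl
  constructor
  · rintro ⟨w, rfl⟩
    refine ⟨((Over.mapPullbackAdj f).homEquiv X N).symm w, ?_⟩
    rw [h1]
    exact ((Over.mapPullbackAdj f).homEquiv_naturality_right_symm w n).symm
  · rintro ⟨w, hw⟩
    refine ⟨(Over.mapPullbackAdj f).homEquiv X N w, ?_⟩
    rw [h1] at hw
    apply ((Over.mapPullbackAdj f).homEquiv X G).symm.injective
    rw [← hw]
    have h2 := (Over.mapPullbackAdj f).homEquiv_naturality_right_symm
      ((Over.mapPullbackAdj f).homEquiv X N w) n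
    rw [Equiv.symm_apply_apply] at h2
    exact h2

/-- A subgroup `i : B ⟶ G` whose normaliser is represented by a closed subscheme and whose geometric
fibres are self-normalising is closed and self-normalising. -/
theorem isIso_of_normalizer [LocallyOfFiniteType G.hom] [Smooth B.hom]
    (i : B ⟶ G) [IsMonHom i] [Mono i] [IsImmersion i.left] {N : Over S} (n : N ⟶ G)
    [IsClosedImmersion n.left]
    (hn : ∀ (T : Over S) (g : T ⟶ G), (∃ z : T ⟶ N, z ≫ n = g) ↔ Conj i i g)
    (hs : ∀ s : S, ∃ (K : Type u) (_ : Field K) (x : Spec (CommRingCat.of K) ⟶ S),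
      x (IsLocalRing.closedPoint K) = s ∧ ∀ (X : Over (Spec (CommRingCat.of K))) (g : X ⟶ Red.bc x G),
        Conj ((Over.pullback x).map i) ((Over.pullback x).map i) g →
          ∃ z, z ≫ (Over.pullback x).map i = g) :
    ∃ f : B ⟶ N, IsIso f ∧ f ≫ n = i := by
  have hm : Mono n := Sga3C.ClosedSub.mono_of_left n
  obtain ⟨f, hf⟩ := (hn B i).2 (by
    have := conj_of_mem i (mem_comp i (𝟙 B))
    rwa [Category.id_comp] at this)
  refine ⟨f, ?_, hf⟩
  -- the fibres
  have hiso : ∀ (K : Type u) [Field K] (x : Spec (CommRingCat.of K) ⟶ S),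
      (∀ (X : Over (Spec (CommRingCat.of K))) (g : X ⟶ Red.bc x G),
        Conj ((Over.pullback x).map i) ((Over.pullback x).map i) g →
          ∃ z, z ≫ (Over.pullback x).map i = g) → IsIso ((Over.pullback x).map f) := by
    intro K _ x hx
    have hmx : Mono ((Over.pullback x).map n) := inferInstance
    have hmi : Mono ((Over.pullback x).map i) := inferInstance
    have e1 : (Over.pullback x).map f ≫ (Over.pullback x).map n = (Over.pullback x).map i := by
      rw [← Functor.map_comp, hf]
    obtain ⟨w, hw⟩ := hx _ ((Over.pullback x).map n) (by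
      rw [LC.conj_bc_iff, ← hn]
      exact (mem_bc_iff x n _).1 ⟨𝟙 _, Category.id_comp _⟩)
    exact ⟨w, by rw [← cancel_mono ((Over.pullback x).map i), Category.assoc, hw, e1,
      Category.id_comp], by rw [← cancel_mono ((Over.pullback x).map n), Category.assoc, e1, hw,
        Category.id_comp]⟩
  have himm : IsImmersion f.left := by
    have : IsImmersion (f.left ≫ n.left) := by
      rw [← Over.comp_left, hf]; infer_instance
    exact IsImmersion.of_comp f.left n.left
  have hcl : IsClosedImmersion f.left := by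
    refine IsClosedImmersion.of_isPreimmersion _ ?_
    have hsurj : Set.range f.left = Set.univ := by
      rw [Set.eq_univ_iff_forall]
      intro y
      obtain ⟨K, _, x, hx, h⟩ := hs (N.hom y)
      have := hiso K x h
      obtain ⟨y', hy'⟩ : y ∈ Set.range (pullback.fst N.hom x) := by
        rw [Scheme.Pullback.range_fst]
        exact ⟨_, hx⟩
      have hl : IsIso ((Over.pullback x).map f).left :=
        (Over.forget _).map_isIso ((Over.pullback x).map f)
      refine ⟨pullback.fst B.hom x ((inv ((Over.pullback x).map f).left) y'), ?_⟩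
      have e2 := (FibIsoSch.isPullback_map_left x f).w
      rw [← Scheme.Hom.comp_apply, e2, Scheme.Hom.comp_apply, ← hy', ← Scheme.Hom.comp_apply,
        ← Scheme.Hom.comp_apply, IsIso.inv_hom_id_assoc]
    rw [hsurj]
    exact isClosed_univ
  have hN : LocallyOfFiniteType N.hom := by
    rw [← Over.w n]; infer_instance
  refine FibIsoSch.isIso_of_fibres f fun s => ?_
  obtain ⟨K, _, x, hx, h⟩ := hs s
  exact ⟨K, inferInstance, x, hx, hiso K x h⟩

end Norm

variable {S : Scheme.{u}} {G B : Over S} [GrpObj G] [GrpObj B]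

/-- Self-normalisation of Borel subgroups over an algebraically closed field, functorially. -/
theorem exists_of_conj_geomFibre (hG : Red.IsReductive G) (i : B ⟶ G) (s : S)
    (hB : Red.IsBorelOver (AlgebraicClosure (S.residueField s))
      ((Over.pullback (Red.geomPt s)).map i))
    (X : Over (Spec (CommRingCat.of (AlgebraicClosure (S.residueField s)))))
    (g : X ⟶ Red.geomFibre s G)
    (hg : Conj ((Over.pullback (Red.geomPt s)).map i) ((Over.pullback (Red.geomPt s)).map i) g) :
    ∃ z, z ≫ (Over.pullback (Red.geomPt s)).map i = g := by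
  have h1 := PbKN751.isNormalizerOf_of_KN (fun K _ _ => RG.PbQ890.kn K)
    (AlgBc.isReductive_iff.2 (hG.2.2 s)) ((Over.pullback (Red.geomPt s)).map i)
    (AlgBc.isParabolic_iff.2 (BorelEt.isParabolicOver_of_isBorelOver hB))
  exact (h1.2.2 X g).2 ((norm_iff _ g).2 hg)

/-- **An immersed Borel subgroup of a reductive group scheme is closed and self-normalising.** -/
theorem isClosedImmersion_and_isNormalizerOf (hG : Red.IsReductive G) (i : B ⟶ G)
    (hB : RedSub.IsBorelSub i) : IsClosedImmersion i.left ∧ Red.IsNormalizerOf i i := by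
  obtain ⟨⟨⟨hmon, himm⟩, hsm, hqc, hconn, -⟩, hb⟩ := hB
  have haff := hG.1
  have hsmG := hG.2.1
  have hsep : IsSeparated B.hom := by
    rw [← Over.w i]; infer_instance
  have hmono : Mono i := by
    have : Mono i.left := inferInstance
    exact (Over.forget S).mono_of_mono_map this
  obtain ⟨⟨N, n, hn1, -, hn3⟩, -⟩ := Groth.Agent.S3040.result S G B hconn i
  have hn : ∀ (T : Over S) (g : T ⟶ G), (∃ z : T ⟶ N, z ≫ n = g) ↔ Conj i i g :=
    fun T g => (hn3 T g).trans (norm_iff i g)
  obtain ⟨f, hf1, hf2⟩ := isIso_of_normalizer i n hn fun s =>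
    ⟨AlgebraicClosure (S.residueField s), inferInstance, Red.geomPt s, by
      change (Spec.map _ ≫ S.fromSpecResidueField s) _ = s
      rw [Scheme.Hom.comp_apply]
      exact Scheme.fromSpecResidueField_apply _ _, exists_of_conj_geomFibre hG i s (hb s)⟩
  constructor
  · have : IsIso f.left := (Over.forget _).map_isIso f
    rw [← hf2, Over.comp_left]
    infer_instance
  · refine ⟨hmon, hmono, fun X g => ?_⟩
    rw [norm_iff, ← hn]
    constructor
    · rintro ⟨z, rfl⟩
      exact ⟨z ≫ f, by rw [Category.assoc, hf2]⟩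
    · rintro ⟨z, rfl⟩
      exact ⟨z ≫ inv f, by rw [Category.assoc, ← hf2, IsIso.inv_hom_id_assoc]⟩

end Groth.Agent.RedSub.H645.ClosedBor
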