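import Groth.Agent.RedSub.H645.SmoothConj
import Groth.Agent.RedSub.H645.ConjEqIff
import Groth.Agent.Sga3B.Parab.LCMain
import Groth.Agent.Sga3B.Parab.DynGeom678
import Groth.Agent.Sga3B.Parab.Uncond688
import Groth.Agent.FlatA.EtaleSections

/-!
# Parabolic subgroups with conjugate geometric fibres are conjugate étale locally

* `SmConj p q s`, `ELConj p q s`: `p` and `q` are conjugate over a smooth (étale) neighbourhood
  of `s`;
* `etConj_of_geomFibre`: two parabolic subgroups (closed subgroup schemes, `Red.IsParabolic`) of a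
  reductive group scheme whose geometric fibres at `s` are conjugate are conjugate over an étale
  neighbourhood of `s`;
* `exists_etale_conjEq`: the same with `RedSub.ConjEq`.
-/

set_option autoImplicit false

universe u

open CategoryTheory MonoidalCategory CartesianMonoidalCategory MonObj GrpObj AlgebraicGeometry

namespace Groth.Agent.RedSub.H645.EtConj

open Groth.Agent.Sga3B Groth.Agent.Sga3C Groth.Agent.Sga3B.Parab Groth.Agent.Sga3B.Parab.ConjPt
open Groth.Agent.Sga3B.Parab.LC ResAlg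
open Groth.Agent.Sga3B.Parab.DynBc998 Groth.Agent.Sga3B.Parab.Dyn998

variable {S S' : Scheme.{u}} {G P Q : Over S} [GrpObj G] [GrpObj P] [GrpObj Q]

/-- `p` and `q` are conjugate over a smooth neighbourhood of `s`. -/
def SmConj (p : P ⟶ G) (q : Q ⟶ G) (s : S) : Prop :=
  ∃ (S' : Scheme.{u}) (f : S' ⟶ S), Smooth f ∧ s ∈ Set.range f ∧ ∃ h : Over.mk f ⟶ G, Conj p q h

/-- `p` and `q` are conjugate over an étale neighbourhood of `s`. -/
def ELConj (p : P ⟶ G) (q : Q ⟶ G) (s : S) : Prop :=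
  ∃ (S' : Scheme.{u}) (f : S' ⟶ S), Etale f ∧ s ∈ Set.range f ∧ ∃ h : Over.mk f ⟶ G, Conj p q h

/-- Smooth-local conjugacy descends. -/
lemma SmConj.of_bc (f : S' ⟶ S) [Smooth f] {p : P ⟶ G} {q : Q ⟶ G} {s' : S'}
    (h : SmConj ((Over.pullback f).map p) ((Over.pullback f).map q) s') : SmConj p q (f s') := by
  obtain ⟨S₂, f₂, h1, ⟨z, rfl⟩, g, hg⟩ := h
  rw [conj_bc_iff] at hg
  exact ⟨S₂, f₂ ≫ f, inferInstance, ⟨z, Scheme.Hom.comp_apply _ _ _⟩, _, hg⟩

omit [GrpObj P] [GrpObj Q] in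
/-- Conjugacy over a smooth neighbourhood implies conjugacy over an étale neighbourhood. -/
lemma SmConj.elConj {p : P ⟶ G} {q : Q ⟶ G} {s : S} (h : SmConj p q s) : ELConj p q s := by
  obtain ⟨S₁, f₁, h1, h2, g, hg⟩ := h
  obtain ⟨S₂, f₂, s₂, h3, h4, j, hj⟩ := Groth.Agent.FlatA.EtaleSections.exists_section f₁ s h2
  refine ⟨S₂, f₂, h3, ⟨s₂, h4⟩, (Over.homMk j hj : Over.mk f₂ ⟶ Over.mk f₁) ≫ g, hg.comp _⟩

/-- In terms of `RedSub.ConjEq` over the base change. -/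
lemma ELConj.exists_conjEq {p : P ⟶ G} {q : Q ⟶ G} {s : S} (h : ELConj p q s) :
    ∃ (U : Scheme.{u}) (f : U ⟶ S) (_ : Etale f), s ∈ Set.range f.base ∧
      ∃ g : 𝟙_ _ ⟶ Red.bc f G, RedSub.ConjEq ((Over.pullback f).map p) ((Over.pullback f).map q) g := by
  obtain ⟨S₂, f₂, h3, h4, g, hg⟩ := h
  exact ⟨S₂, f₂, h3, h4, ConjEqIff.exists_conjEq_bc f₂ hg⟩

/-- **Parabolic subgroups with conjugate geometric fibres at `s` are conjugate over a smooth
neighbourhood of `s`.** -/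
theorem smConj_of_geomFibre (hG : Red.IsReductive G)
    (p : P ⟶ G) (q : Q ⟶ G) (hp : Red.IsParabolic p) (hq : Red.IsParabolic q) (s : S)
    (hs : ∃ g : 𝟙_ _ ⟶ Red.geomFibre s G,
      Conj ((Over.pullback (Red.geomPt s)).map p) ((Over.pullback (Red.geomPt s)).map q) g) :
    SmConj p q s := by
  obtain ⟨S₁, f₁, hf₁, s₁, rfl, T₁, _, t₁, r₁, e₁, l₁, ml₁, ht₁, h₁⟩ :=
    Uncond688.locDyn p hG hp s
  have hG₁ := AlgBc.isReductive_bc f₁ hG
  obtain ⟨S₂, f₂, hf₂, s₂, rfl, T₂, _, t₂, r₂, e₂, l₂, ml₂, ht₂, h₂⟩ :=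
    Uncond688.locDyn _ hG₁ (ParBc.isParabolic_bc f₁ hq) s₁
  have hG₂ := AlgBc.isReductive_bc f₂ hG₁
  have haff : IsAffineHom (Red.bc f₂ (Red.bc f₁ G)).hom := hG₂.1
  have hsm : Smooth (Red.bc f₂ (Red.bc f₁ G)).hom := hG₂.2.1
  have mt₁ : IsMonHom t₁ := ht₁.1
  have mt₂ : IsMonHom t₂ := ht₂.1
  apply SmConj.of_bc f₁
  apply SmConj.of_bc f₂
  obtain ⟨g, hg⟩ := hs
  obtain ⟨g₁, hg₁⟩ := exists_conj_geomFibre_bc f₁ p q (f₂ s₂) g hg
  obtain ⟨g₂, hg₂⟩ := exists_conj_geomFibre_bc f₂ _ _ s₂ g₁ hg₁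
  have h₁' := h₁.bc f₂
  rw [bcLam_comp, Functor.map_comp] at h₁'
  exact SmoothConj.exists_smooth_local_conj
    (fun K _ _ A _ _ _ _ T T' => RG.ConjTori.exists_conj_of_isMaxTorusSub)
    (fun lam _ P' _ p' hp' s => DynGeom678.isIntegral_geomFibre_isDynP hp' s (hG₂.2.2 s).2.2.1)
    _ _ ((Over.pullback f₂).map t₁) t₂ e₂
    (bcLam l₁ f₂) l₂ h₁' h₂ s₂ (AlgBc.isMaximalTorus_bc _ (AlgBc.isMaximalTorus_bc f₂ ht₁))
    (AlgBc.isMaximalTorus_bc _ ht₂) g₂ hg₂

/-- **Parabolic subgroups with conjugate geometric fibres at `s` are conjugate over an étale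
neighbourhood of `s`.** -/
theorem etConj_of_geomFibre (hG : Red.IsReductive G)
    (p : P ⟶ G) (q : Q ⟶ G) (hp : Red.IsParabolic p) (hq : Red.IsParabolic q) (s : S)
    (hs : ∃ g : 𝟙_ _ ⟶ Red.geomFibre s G,
      Conj ((Over.pullback (Red.geomPt s)).map p) ((Over.pullback (Red.geomPt s)).map q) g) :
    ELConj p q s :=
  (smConj_of_geomFibre hG p q hp hq s hs).elConj

/-- The same in terms of `RedSub.ConjEq`. -/
theorem exists_etale_conjEq (hG : Red.IsReductive G)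
    (p : P ⟶ G) (q : Q ⟶ G) (hp : Red.IsParabolic p) (hq : Red.IsParabolic q) (s : S)
    (hs : ∃ g : 𝟙_ _ ⟶ Red.geomFibre s G,
      RedSub.ConjEq ((Over.pullback (Red.geomPt s)).map p)
        ((Over.pullback (Red.geomPt s)).map q) g) :
    ∃ (U : Scheme.{u}) (f : U ⟶ S) (_ : Etale f), s ∈ Set.range f.base ∧
      ∃ g : 𝟙_ _ ⟶ Red.bc f G,
        RedSub.ConjEq ((Over.pullback f).map p) ((Over.pullback f).map q) g := by
  obtain ⟨g, hg⟩ := hs
  exact (etConj_of_geomFibre hG p q hp hq s ⟨g, (ConjEqIff.conjEq_iff g).1 hg⟩).exists_conjEq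

end Groth.Agent.RedSub.H645.EtConj
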