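import Groth.Agent.Sga3B.Parab.ConjLC

/-!
# Local conjugacy of dynamic subgroups, over a smooth neighbourhood

Same as `Groth.Agent.Sga3B.Parab.ConjLC.exists_local_conj`, keeping the smoothness of the
transporter.
-/

set_option autoImplicit false

universe u

open CategoryTheory MonoidalCategory CartesianMonoidalCategory MonObj GrpObj AlgebraicGeometry
open Groth.Agent.Sga3B.Parab.Transp Groth.Agent.Sga3B.Parab.Dyn998
open Groth.Agent.Sga3B.Parab.DynExist998 Groth.Agent.Sga3B.Parab.DynBc998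
open Groth.Agent.Sga3B.Parab.DynLevi998 Groth.Agent.Sga3B.Parab.DynClosed998
open Groth.Agent.Sga3B.Parab.DynFib678
open Groth.Agent.Sga3B.Parab.ConjLC

namespace Groth.Agent.RedSub.H645.SmoothConj

open Groth.Agent.Sga3B Groth.Agent.Sga3C Groth.Agent.Sga3B.Parab Groth.Agent.Sga3B.Parab.ConjDyn
  Groth.Agent.Sga3B.Parab.ConjPt

/-- **Local conjugacy.** -/
theorem exists_smooth_local_conj
    (hP7 : ∀ (K : Type u) [Field K] [IsAlgClosed K] (A : Type u) [CommRing A] [HopfAlgebra K A]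
      [Algebra.FiniteType K A] [IsDomain A] (T T' : Subgroup (RG.Pt K A)), RG.IsMaxTorusSub T →
        RG.IsMaxTorusSub T' → ∃ g : RG.Pt K A, T.map (MulAut.conj g).toMonoidHom = T')
    {S : Scheme.{u}} {G P Q T₁ T₂ : Over S} [GrpObj G] [GrpObj P] [GrpObj Q] [GrpObj T₁]
    [GrpObj T₂] [IsAffineHom G.hom] [Smooth G.hom]
    (hint : ∀ (lam : Red.Gm S ⟶ G) [IsMonHom lam] (P' : Over S) [GrpObj P'] (p' : P' ⟶ G),
      IsDynP lam p' → ∀ s : S, IsIntegral (Red.geomFibre s P').left)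
    (p : P ⟶ G) (q : Q ⟶ G) (t₁ : T₁ ⟶ P) (t₂ : T₂ ⟶ Q) [IsMonHom t₁] [IsMonHom t₂]
    {M : Type} [AddCommGroup M] (e₂ : Grp.mk T₂ ≅ Grp.mk (Red.DS S M))
    (l₁ : Red.Gm S ⟶ T₁) [IsMonHom l₁] (l₂ : Red.Gm S ⟶ T₂) [IsMonHom l₂]
    (h₁ : IsDynP (l₁ ≫ t₁ ≫ p) p) (h₂ : IsDynP (l₂ ≫ t₂ ≫ q) q) (s : S)
    (hm₁ : Red.IsMaximalTorus ((Over.pullback (Red.geomPt s)).map t₁))
    (hm₂ : Red.IsMaximalTorus ((Over.pullback (Red.geomPt s)).map t₂))
    (g : 𝟙_ _ ⟶ Red.geomFibre s G)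
    (hg : Conj ((Over.pullback (Red.geomPt s)).map p) ((Over.pullback (Red.geomPt s)).map q) g) :
    ∃ (S' : Scheme.{u}) (f : S' ⟶ S), Smooth f ∧
      s ∈ Set.range f ∧ ∃ h : Over.mk f ⟶ G, Conj p q h := by
  have mp := h₁.isMonHom
  have mq := h₂.isMonHom
  have np := h₁.mono
  have nq := h₂.mono
  have cp := h₁.isClosedImmersion
  have cq := h₂.isClosedImmersion
  have sp := h₁.smooth
  have sq := h₂.smooth
  have aq : IsAffineHom Q.hom := by
    rw [← Over.w q]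
    infer_instance
  let x := Red.geomPt s
  have hx : x (IsLocalRing.closedPoint _) = s := by
    change (Spec.map _ ≫ S.fromSpecResidueField s) _ = s
    rw [Scheme.Hom.comp_apply]
    exact Scheme.fromSpecResidueField_apply _ _
  have hQint : IsIntegral (Red.geomFibre s Q).left := hint (l₂ ≫ t₂ ≫ q) Q q h₂ s
  have hQconn : ConnectedSpace (Red.geomFibre s Q).left := inferInstance
  have aqK : IsAffineHom (Red.geomFibre s Q).hom := by
    change IsAffineHom (Limits.pullback.snd Q.hom _)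
    infer_instance
  have sqK : Smooth (Red.geomFibre s Q).hom := by
    change Smooth (Limits.pullback.snd Q.hom _)
    infer_instance
  let eK := RedIso.und (BcIso.bcMapIso x e₂ ≪≫ TorusAlgClosed.dsBcIso x M)
  obtain ⟨a, y, hy⟩ := exists_cochar_conj (hP7 _) ((Over.pullback x).map p)
    ((Over.pullback x).map q) g hg ((Over.pullback x).map t₁) ((Over.pullback x).map t₂) hm₁ hm₂
    eK (bcLam l₁ x)
  -- the new cocharacter of `T₂`
  have mDS : IsMonHom (Red.DSmap S y) := isMonHom_DSmap y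
  let l' : Red.Gm S ⟶ T₂ := Red.DSmap S y ≫ (RedIso.und e₂).inv
  have ml' : IsMonHom l' := inferInstance
  let lam : Red.Gm S ⟶ G := l₁ ≫ t₁ ≫ p
  let mu' : Red.Gm S ⟶ G := l' ≫ t₂ ≫ q
  have mlam : IsMonHom lam := inferInstance
  have mmu' : IsMonHom mu' := inferInstance
  obtain ⟨c, hcdef⟩ : ∃ c : 𝟙_ _ ⟶ Red.geomFibre s G, c = (a ≫ (Over.pullback x).map q) * g :=
    ⟨_, rfl⟩
  have e1 : bcLam mu' x = (toUnit _ ≫ c) * bcLam lam x * (toUnit _ ≫ c)⁻¹ := by
    have e2 : bcLam mu' x = Red.DSmap _ y ≫ eK.inv ≫ (Over.pullback x).map t₂ ≫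
        (Over.pullback x).map q := by
      have e3 : (RedIso.und (TorusAlgClosed.dsBcIso x ℤ)).inv ≫ (Over.pullback x).map (Red.DSmap S y) =
          Red.DSmap _ y ≫ (RedIso.und (TorusAlgClosed.dsBcIso x M)).inv := by
        rw [Iso.inv_comp_eq, ← Category.assoc, Iso.eq_comp_inv]
        exact (dsBcIso_nat x y).symm
      change (RedIso.und (TorusAlgClosed.dsBcIso x ℤ)).inv ≫
        (Over.pullback x).map ((Red.DSmap S y ≫ (RedIso.und e₂).inv) ≫ t₂ ≫ q) = _
      rw [Functor.map_comp, Functor.map_comp, Functor.map_comp, Category.assoc, reassoc_of% e3]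
      rfl
    have e4 : bcLam lam x = bcLam l₁ x ≫ (Over.pullback x).map t₁ ≫ (Over.pullback x).map p := by
      change (RedIso.und (TorusAlgClosed.dsBcIso x ℤ)).inv ≫ (Over.pullback x).map (l₁ ≫ t₁ ≫ p) =
        ((RedIso.und (TorusAlgClosed.dsBcIso x ℤ)).inv ≫ (Over.pullback x).map l₁) ≫ _
      rw [Functor.map_comp, Functor.map_comp, Category.assoc]
    rw [e2, e4, hy, hcdef]
  have hc : TrPt (bcLam lam x) (bcLam mu' x) c := by
    intro Y y t
    rw [e1, comp_mul, comp_mul, comp_inv, ← Category.assoc t, toUnit_unique (t ≫ toUnit _) y]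
  obtain ⟨P', _, p', hp', cp'⟩ := exists_isDynP mu'
  have mp' := hp'.isMonHom
  have np' := hp'.mono
  have sp' := hp'.smooth
  have ap' : IsAffineHom P'.hom := by
    rw [← Over.w p']
    infer_instance
  have hc1 : Conj ((Over.pullback x).map p) ((Over.pullback x).map p') c :=
    conj_of_trPt (h₁.bc x) (hp'.bc x) hc
  have hc2 : Conj ((Over.pullback x).map p) ((Over.pullback x).map q) c := by
    rw [hcdef]
    exact Conj.mul (conj_of_mem _ (mem_comp _ a)) hg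
  have hc3 : Conj ((Over.pullback x).map q) ((Over.pullback x).map p')
      (1 : 𝟙_ _ ⟶ Red.geomFibre s G) := by
    have := Conj.mul hc1 hc2.inv
    rwa [mul_inv_cancel] at this
  have hmem : ∀ (X : Over (Spec (CommRingCat.of (AlgebraicClosure (S.residueField s)))))
      (z : X ⟶ Red.bc x G), (∃ w, w ≫ (Over.pullback x).map q = z) ↔
        ∃ w, w ≫ (Over.pullback x).map p' = z := by
    intro X z
    have := hc3 X (toUnit X) z
    rwa [comp_one, _root_.one_mul, inv_one, _root_.mul_one] at this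
  -- `Q ≤ P'` near `s`
  let muQ : Red.Gm S ⟶ Q := l' ≫ t₂
  have e5 : bcLam mu' x = bcLam muQ x ≫ (Over.pullback x).map q := by
    change (RedIso.und (TorusAlgClosed.dsBcIso x ℤ)).inv ≫ (Over.pullback x).map (l' ≫ t₂ ≫ q) =
      ((RedIso.und (TorusAlgClosed.dsBcIso x ℤ)).inv ≫ (Over.pullback x).map (l' ≫ t₂)) ≫ _
    rw [← Category.assoc l' t₂ q, Functor.map_comp _ (l' ≫ t₂)]
    exact (Category.assoc _ _ _).symm
  have cqK : IsClosedImmersion ((Over.pullback x).map q).left :=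
    MorphismProperty.overPullbackMap (P := @IsClosedImmersion) _ q cq
  have hQK : IsDynP (bcLam muQ x) (𝟙 (Red.bc x Q)) := by
    apply IsDynP.of_comp (i := (Over.pullback x).map q)
    rw [← e5, Category.id_comp]
    exact ⟨inferInstance, inferInstance, fun X z => (hmem X z).trans ((hp'.bc x).iff_ptP X z)⟩
  obtain ⟨U, hsU, hU⟩ := exists_open_isDynP_id (hint (l₂ ≫ t₂ ≫ q) Q q h₂) s _ x hx hQK
  -- `P' ≤ Q` near `s`
  obtain ⟨t₂', ht₂'⟩ := (hp'.iff_ptP T₂ (t₂ ≫ q)).2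
    (ptP_of_comm (t₂ ≫ q) l' fun _ => comm_of_split e₂)
  have mt₂' : IsMonHom t₂' := by
    have : IsMonHom (t₂' ≫ p') := by rw [ht₂']; infer_instance
    exact isMonHom_of_comp_mono (p := p')
  let muP : Red.Gm S ⟶ P' := l₂ ≫ t₂'
  have e6 : bcLam (l₂ ≫ t₂ ≫ q) x = bcLam muP x ≫ (Over.pullback x).map p' := by
    change (RedIso.und (TorusAlgClosed.dsBcIso x ℤ)).inv ≫ (Over.pullback x).map (l₂ ≫ t₂ ≫ q) =
      ((RedIso.und (TorusAlgClosed.dsBcIso x ℤ)).inv ≫ (Over.pullback x).map (l₂ ≫ t₂')) ≫ _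
    rw [← ht₂', ← Category.assoc l₂ t₂' p', Functor.map_comp _ (l₂ ≫ t₂')]
    exact (Category.assoc _ _ _).symm
  have cpK : IsClosedImmersion ((Over.pullback x).map p').left :=
    MorphismProperty.overPullbackMap (P := @IsClosedImmersion) _ p' cp'
  have hPK : IsDynP (bcLam muP x) (𝟙 (Red.bc x P')) := by
    apply IsDynP.of_comp (i := (Over.pullback x).map p')
    rw [← e6, Category.id_comp]
    exact ⟨inferInstance, inferInstance, fun X z =>
      (hmem X z).symm.trans ((h₂.bc x).iff_ptP X z)⟩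
  obtain ⟨U', hsU', hU'⟩ := exists_open_isDynP_id (hint mu' P' p' hp') s _ x hx hPK
  -- the transporter
  obtain ⟨Z, z, -, sZ, hZ⟩ := exists_transporter lam mu'
  obtain ⟨z₀, hz₀⟩ := (hZ _ _).2 ((trPt_bc_iff x lam mu' c).1 hc)
  let D : Z.left.Opens := Z.hom ⁻¹ᵁ (U ⊓ U')
  refine ⟨D, D.ι ≫ Z.hom, inferInstance, ?_, ?_⟩
  · let pt : ((Over.map x).obj (𝟙_ (Over (Spec (CommRingCat.of
        (AlgebraicClosure (S.residueField s))))))).left := IsLocalRing.closedPoint _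
    have h3 : Z.hom (z₀.left pt) = s := by
      rw [← Scheme.Hom.comp_apply, Over.w]
      change (𝟙 _ ≫ x) _ = s
      rw [Category.id_comp]
      exact hx
    refine ⟨⟨z₀.left pt, ?_⟩, ?_⟩
    · change Z.hom (z₀.left pt) ∈ U ⊓ U'
      rw [h3]
      exact ⟨hsU, hsU'⟩
    · rw [Scheme.Hom.comp_apply]
      exact h3
  let h : Over.mk (D.ι ≫ Z.hom) ⟶ G := (Over.homMk D.ι : Over.mk (D.ι ≫ Z.hom) ⟶ Z) ≫ z
  have hh : TrPt lam mu' h := (hZ _ _).1 ⟨_, rfl⟩
  refine ⟨h, fun X' x' y' => ?_⟩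
  change (∃ w, w ≫ p = y') ↔ ∃ w, w ≫ q = _
  rw [h₁.iff_ptP]
  refine (ptP_conj_iff (hh.comp x')).trans ?_
  generalize x' ≫ h * y' * (x' ≫ h)⁻¹ = v
  -- morphisms to `U` and `U'`
  have hlift : ∀ V : S.Opens, U ⊓ U' ≤ V → Nonempty (X' ⟶ Over.mk V.ι) := by
    intro V hV
    have h5 : ∀ d : X'.left, X'.hom d ∈ V := by
      intro d
      apply hV
      rw [← Over.w x']
      change Z.hom (D.ι (x'.left d)) ∈ U ⊓ U'
      exact (x'.left d).2
    refine ⟨Over.homMk (IsOpenImmersion.lift V.ι X'.hom ?_) (IsOpenImmersion.lift_fac _ _ _)⟩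
    rintro _ ⟨d, rfl⟩
    rw [Scheme.Opens.range_ι]
    exact h5 d
  obtain ⟨w⟩ := hlift U inf_le_left
  obtain ⟨w'⟩ := hlift U' inf_le_right
  constructor
  · intro hv
    obtain ⟨v', rfl⟩ := (hp'.iff_ptP _ _).2 hv
    have h6 := ptP_of_open U'.ι hU' w' v'
    rw [h₂.iff_ptP, ← ht₂', ← Category.assoc]
    exact ptP_comp_iff (mu := l₂ ≫ t₂') (i := p') v' |>.2 h6
  · rintro ⟨v', rfl⟩
    have h6 := ptP_of_open U.ι hU w v'
    have h7 := ptP_comp_iff (mu := l' ≫ t₂) (i := q) v' |>.2 h6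
    rwa [Category.assoc] at h7

end Groth.Agent.RedSub.H645.SmoothConj
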